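import Mathlib.RingTheory.AlgebraicIndependent.Basic
import Mathlib.LinearAlgebra.LinearIndependent.Basic
import Mathlib.LinearAlgebra.Dimension.Constructions
import Mathlib.LinearAlgebra.FiniteDimensional.Lemmas
import Mathlib.LinearAlgebra.Dual.Lemmas
import Mathlib.Algebra.MvPolynomial.CommRing
import Mathlib.FieldTheory.Galois.Basic

/-! # Galois descent for semilinear representations: the no-name lemma -/

set_option autoImplicit false
universe u v

open MvPolynomial

namespace InvFldLib

variable {k : Type u} [Field k] {L F : Type v} [Field L] [Field F] [Algebra k L] [Algebra k F] [Algebra L F]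
  [IsScalarTower k L F] {G : Type*} [Group G] [Finite G] (ρ : G →* (L ≃ₐ[k] L)) (θ : G →* (F ≃ₐ[k] F))
  (hcomp : ∀ g a, θ g (algebraMap L F a) = algebraMap L F (ρ g a))

include hcomp in
lemma map_smul_semi (g : G) (a : L) (w : F) : θ g (a • w) = ρ g a • θ g w := by
  rw [Algebra.smul_def, Algebra.smul_def, map_mul, hcomp]

include hcomp in
lemma map_aeval {m : ℕ} {t : Fin m → F} (ht : ∀ g i, θ g (t i) = t i) (g : G) (p : MvPolynomial (Fin m) L) :
    θ g (aeval t p) = aeval t (MvPolynomial.map ((ρ g : L →ₐ[k] L) : L →+* L) p) := by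
  induction p using MvPolynomial.induction_on with
  | C a => simp [hcomp]
  | add p q hp hq => simp [hp, hq]
  | mul_X p i hp => simp [hp, ht]

variable (hρ : Function.Injective ρ) {m : ℕ} {y : Fin m → F} (hy : AlgebraicIndependent L y)
  (hstab : ∀ g i, θ g (y i) ∈ Submodule.span L (Set.range y))

include hcomp hρ hy hstab in
theorem exists_invariant_basis :
    ∃ t : Fin m → F, (∀ g i, θ g (t i) = t i) ∧ AlgebraicIndependent L t ∧
      ∀ i, y i ∈ Submodule.span L (Set.range t) := by
  classical
  cases nonempty_fintype G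
  set W := Submodule.span L (Set.range y)
  have hW : ∀ g w, w ∈ W → θ g w ∈ W := by
    intro g w hw
    induction hw using Submodule.span_induction with
    | mem w hw => obtain ⟨i, rfl⟩ := hw; exact hstab g i
    | zero => simp
    | add a b _ _ ha hb => rw [map_add]; exact add_mem ha hb
    | smul c a _ ha => rw [map_smul_semi ρ θ hcomp]; exact W.smul_mem _ ha
  set Fix : Set F := {w | w ∈ W ∧ ∀ g, θ g w = w}
  have hspanFix : Submodule.span L Fix = W := by
    refine le_antisymm (Submodule.span_le.2 fun w hw => hw.1) fun w hw => ?_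
    by_contra hnot
    obtain ⟨φ, hφw, hφ⟩ := Submodule.exists_dual_map_eq_bot_of_notMem hnot inferInstance
    have hφ0 : ∀ v ∈ Fix, φ v = 0 := fun v hv => by
      have : φ v ∈ (Submodule.span L Fix).map φ := ⟨v, Submodule.subset_span hv, rfl⟩
      rwa [hφ, Submodule.mem_bot] at this
    have hli : LinearIndependent L (fun g : G => ((ρ g : L →ₐ[k] L).toRingHom.toMonoidHom : L → L)) :=
      (linearIndependent_monoidHom L L).comp (fun g : G => (ρ g : L →ₐ[k] L).toRingHom.toMonoidHom)
        fun a b h => hρ (AlgEquiv.ext fun x => DFunLike.congr_fun h x)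
    have hz := Fintype.linearIndependent_iff.1 hli (fun g => φ (θ g w)) (funext fun a => by
      simp only [Finset.sum_apply, Pi.smul_apply, Pi.zero_apply, smul_eq_mul]
      have htr : (∑ g, θ g (a • w)) ∈ Fix := by
        refine ⟨sum_mem fun g _ => hW g _ (W.smul_mem _ hw), fun h => ?_⟩
        rw [map_sum]
        refine Fintype.sum_equiv (Equiv.mulLeft h) _ _ fun g => ?_
        simp [map_mul]
      have := hφ0 _ htr
      simp only [map_sum, map_smul_semi ρ θ hcomp, map_smul, smul_eq_mul] at this
      rw [← this]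
      exact Finset.sum_congr rfl fun g _ => mul_comm _ _) 1
    simp at hz
    exact hφw hz
  obtain ⟨b, hbF, hbspan, hbli⟩ := exists_linearIndependent L Fix
  rw [hspanFix] at hbspan
  have hfin : b.Finite := by
    haveI : FiniteDimensional L W := Module.Finite.span_of_finite L (Set.finite_range y)
    have : LinearIndependent L (fun x : b => (⟨x.1, (hbspan ▸ Submodule.subset_span x.2 : (x : F) ∈ W)⟩ : W)) :=
      LinearIndependent.of_comp W.subtype hbli
    exact Set.finite_coe_iff.1 this.finite
  haveI := hfin.fintype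
  have hcard : Fintype.card b = m := by
    rw [← Set.toFinset_card, ← finrank_span_set_eq_card hbli, hbspan,
      finrank_span_eq_card hy.linearIndependent, Fintype.card_fin]
  let e := (Fintype.equivFinOfCardEq hcard).symm
  let t : Fin m → F := fun i => (e i : F)
  have hrange : Set.range t = b := Set.ext fun x =>
    ⟨fun ⟨i, hi⟩ => hi ▸ (e i).2, fun hx => ⟨e.symm ⟨x, hx⟩, by simp [t]⟩⟩
  have htspan : Submodule.span L (Set.range t) = W := by rw [hrange, hbspan]
  have htli : LinearIndependent L t := hbli.comp e e.injective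
  have hyt : ∀ i, y i ∈ Submodule.span L (Set.range t) := fun i => htspan ▸ Submodule.subset_span ⟨i, rfl⟩
  refine ⟨t, fun g i => (hbF (e i).2).2 g, ?_, hyt⟩
  choose B hB using fun i => (Submodule.mem_span_range_iff_exists_fun L).1 (hyt i)
  choose A hA using fun j => (Submodule.mem_span_range_iff_exists_fun L).1
    (show t j ∈ W from htspan ▸ Submodule.subset_span ⟨j, rfl⟩)
  let Φ : MvPolynomial (Fin m) L →ₐ[L] MvPolynomial (Fin m) L := aeval fun i => ∑ l, C (B i l) * X l
  let Ψ : MvPolynomial (Fin m) L →ₐ[L] MvPolynomial (Fin m) L := aeval fun j => ∑ i, C (A j i) * X i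
  have hAB : ∀ j l, ∑ i, A j i * B i l = if j = l then 1 else 0 := by
    intro j l
    have h1 : ∑ l, (∑ i, A j i * B i l) • t l = ∑ l, (if j = l then (1 : L) else 0) • t l := by
      simp only [ite_smul, one_smul, zero_smul, Finset.sum_ite_eq, Finset.mem_univ, if_true]
      conv_rhs => rw [← hA j]
      simp only [Finset.sum_smul, mul_smul]
      rw [Finset.sum_comm]
      exact Finset.sum_congr rfl fun i _ => by rw [← Finset.smul_sum, hB]
    exact sub_eq_zero.1 (Fintype.linearIndependent_iff.1 htli
      (fun l => (∑ i, A j i * B i l) - if j = l then 1 else 0) (by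
        simp only [sub_smul, Finset.sum_sub_distrib, h1, sub_self]) l)
  have hΦΨ : Φ.comp Ψ = AlgHom.id L _ := by
    refine MvPolynomial.algHom_ext fun j => ?_
    simp only [Φ, Ψ, AlgHom.comp_apply, aeval_X, map_sum, map_mul, AlgHom.id_apply, Finset.mul_sum, aeval_C,
      MvPolynomial.algebraMap_eq]
    rw [Finset.sum_comm]
    simp only [← mul_assoc, ← map_mul, ← Finset.sum_mul, ← map_sum, hAB]
    simp [apply_ite C, ite_mul]
  have hcompy : (aeval t : MvPolynomial (Fin m) L →ₐ[L] F) = (aeval y).comp Ψ := by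
    refine MvPolynomial.algHom_ext fun j => ?_
    simp [Ψ, ← hA j, Algebra.smul_def]
  rw [algebraicIndependent_iff_injective_aeval, hcompy, AlgHom.coe_comp]
  refine Function.Injective.comp (algebraicIndependent_iff_injective_aeval.1 hy) fun p q h => ?_
  have := congrArg Φ h
  rwa [← AlgHom.comp_apply, ← AlgHom.comp_apply, hΦΨ] at this

variable (hgen : ∀ z : F, ∃ p q : MvPolynomial (Fin m) L, aeval y q ≠ 0 ∧ z * aeval y q = aeval y p)

include hcomp hρ hy hstab hgen in
/-- The invariants form a rational function field over the invariants of the faithful part. -/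
theorem no_name_lemma :
    ∃ t : Fin m → F, (∀ g i, θ g (t i) = t i) ∧ AlgebraicIndependent L t ∧
      ∀ z, (∀ g, θ g z = z) → ∃ p q : MvPolynomial (Fin m) L,
        (∀ d g, ρ g (coeff d p) = coeff d p) ∧ (∀ d g, ρ g (coeff d q) = coeff d q) ∧
        aeval t q ≠ 0 ∧ z * aeval t q = aeval t p := by
  classical
  cases nonempty_fintype G
  obtain ⟨t, ht, htind, hyt⟩ := exists_invariant_basis ρ θ hcomp hρ hy hstab
  refine ⟨t, ht, htind, fun z hz => ?_⟩
  have hrange : ∀ p : MvPolynomial (Fin m) L, aeval y p ∈ (aeval t : MvPolynomial (Fin m) L →ₐ[L] F).range := by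
    intro p
    have hsp : Submodule.span L (Set.range t) ≤
        Subalgebra.toSubmodule (aeval t : MvPolynomial (Fin m) L →ₐ[L] F).range :=
      Submodule.span_le.2 (by rintro _ ⟨j, rfl⟩; exact ⟨X j, aeval_X t j⟩)
    induction p using MvPolynomial.induction_on with
    | C a => exact ⟨C a, by simp⟩
    | add p q hp hq => rw [map_add]; exact add_mem hp hq
    | mul_X p i hp => rw [map_mul, aeval_X]; exact mul_mem hp (hsp (hyt i))
  obtain ⟨p₀, q₀, hq₀, hz0⟩ := hgen z
  obtain ⟨p₁, hp₁⟩ := hrange p₀
  obtain ⟨q₁, hq₁⟩ := hrange q₀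
  simp only [AlgHom.coe_toRingHom, AlgHom.toRingHom_eq_coe] at hp₁ hq₁
  rw [← hp₁, ← hq₁] at hz0
  rw [← hq₁] at hq₀
  let M : G → MvPolynomial (Fin m) L := fun g => MvPolynomial.map ((ρ g : L →ₐ[k] L) : L →+* L) q₁
  let Q := ∏ g, M g
  let P := p₁ * ∏ g ∈ Finset.univ.erase 1, M g
  have hM1 : M 1 = q₁ := by
    refine MvPolynomial.ext _ _ fun d => ?_
    simp only [M, map_one, coeff_map]
    rfl
  have hQ : Q = q₁ * ∏ g ∈ Finset.univ.erase 1, M g := by
    show ∏ g, M g = _
    rw [← Finset.mul_prod_erase _ _ (Finset.mem_univ (1 : G)), hM1]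
  have hinvQ : ∀ h, θ h (aeval t Q) = aeval t Q := by
    intro h
    simp only [Q, map_prod, M, ← map_aeval ρ θ hcomp ht]
    refine Fintype.prod_equiv (Equiv.mulLeft h) _ _ fun g => ?_
    simp [map_mul]
  have hPQ : z * aeval t Q = aeval t P := by
    rw [hQ, map_mul, ← mul_assoc, hz0, ← map_mul]
  have hcoef : ∀ R : MvPolynomial (Fin m) L, (∀ h, θ h (aeval t R) = aeval t R) →
      ∀ d g, ρ g (coeff d R) = coeff d R := by
    intro R hR d g
    have h1 := htind (show aeval t (MvPolynomial.map ((ρ g : L →ₐ[k] L) : L →+* L) R) = aeval t R by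
      rw [← map_aeval ρ θ hcomp ht, hR])
    conv_rhs => rw [← h1]
    simp [coeff_map]
  refine ⟨P, Q, hcoef P fun h => ?_, hcoef Q hinvQ, ?_, hPQ⟩
  · rw [← hPQ, map_mul, hz, hinvQ]
  · show aeval t (∏ g, M g) ≠ 0
    rw [map_prod, Finset.prod_ne_zero_iff]
    intro g _
    rw [← map_aeval ρ θ hcomp ht]
    simpa using hq₀

end InvFldLib
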