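import Groth.Agent.InvFldLib.Descent
import Groth.Prelude.Def_W4c2brnrinvarInvFld
import Mathlib.RingTheory.AlgebraicIndependent.Adjoin
import Mathlib.RingTheory.Localization.Integer
import Mathlib.Algebra.MvPolynomial.Rename
import Mathlib.FieldTheory.IntermediateField.Adjoin.Basic

/-! # The sum of two linear actions on rational function fields -/

set_option autoImplicit false
universe u

open MvPolynomial

namespace InvFldLib

variable {k : Type u} [Field k] {σ₁ σ₂ : Type}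

local notation "A₁" => MvPolynomial σ₁ k
local notation "F₁₂" => InvFld.Fld (σ₁ ⊕ σ₂) k

variable (k σ₁ σ₂) in
/-- The polynomial inclusion of the left variables. -/
noncomputable def inlHom : A₁ →ₐ[k] F₁₂ := (IsScalarTower.toAlgHom k (MvPolynomial (σ₁ ⊕ σ₂) k) F₁₂).comp (rename Sum.inl)

lemma inlHom_injective : Function.Injective (inlHom k σ₁ σ₂) :=
  (IsFractionRing.injective (MvPolynomial (σ₁ ⊕ σ₂) k) F₁₂).comp (rename_injective _ Sum.inl_injective)

variable (k σ₁ σ₂) in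
/-- `k(V) ⊆ k(V ⊕ W)`. -/
noncomputable def inlFld : InvFld.Fld σ₁ k →ₐ[k] F₁₂ := IsFractionRing.liftAlgHom (inlHom_injective (k := k) (σ₁ := σ₁) (σ₂ := σ₂))

@[simp]
lemma inlFld_algebraMap (p : A₁) :
    inlFld k σ₁ σ₂ (algebraMap A₁ _ p) = algebraMap (MvPolynomial (σ₁ ⊕ σ₂) k) F₁₂ (rename Sum.inl p) :=
  IsFractionRing.lift_algebraMap (inlHom_injective (k := k) (σ₁ := σ₁) (σ₂ := σ₂)) p

lemma inlFld_X (i : σ₁) : inlFld k σ₁ σ₂ (InvFld.X i) = InvFld.X (Sum.inl i) := by simp [InvFld.X]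

lemma fieldRange_inlFld :
    (inlFld k σ₁ σ₂).fieldRange = IntermediateField.adjoin k (Set.range fun j => (InvFld.X (Sum.inl j) : F₁₂)) := by
  refine le_antisymm ?_ (IntermediateField.adjoin_le_iff.2 ?_)
  · rintro _ ⟨z, rfl⟩
    obtain ⟨a, b, -, rfl⟩ := IsFractionRing.div_surjective A₁ z
    have h : ∀ p : A₁, inlFld k σ₁ σ₂ (algebraMap A₁ _ p) ∈
        IntermediateField.adjoin k (Set.range fun j => (InvFld.X (Sum.inl j) : F₁₂)) := by
      intro p
      induction p using MvPolynomial.induction_on with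
      | C r =>
        rw [inlFld_algebraMap, rename_C, ← MvPolynomial.algebraMap_eq, ← IsScalarTower.algebraMap_apply]
        exact IntermediateField.algebraMap_mem _ r
      | add p q hp hq => rw [map_add, map_add]; exact add_mem hp hq
      | mul_X p i hp =>
        rw [map_mul, map_mul]
        exact mul_mem hp (IntermediateField.subset_adjoin _ _ ⟨i, (inlFld_X i).symm⟩)
    show inlFld k σ₁ σ₂ (_ / _) ∈ _
    rw [map_div₀]
    exact div_mem (h a) (h b)
  · rintro _ ⟨i, rfl⟩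
    exact ⟨InvFld.X i, inlFld_X i⟩

variable (k σ₁ σ₂) in
/-- The algebra structure of `k(V ⊕ W)` over `k(V)`. -/
@[reducible] noncomputable def algInl : Algebra (InvFld.Fld σ₁ k) F₁₂ := (inlFld k σ₁ σ₂).toRingHom.toAlgebra

/-- `k[V][W] → k[V ⊕ W]`. -/
noncomputable def flat : MvPolynomial σ₂ A₁ →+* MvPolynomial (σ₁ ⊕ σ₂) k :=
  eval₂Hom (rename Sum.inl : A₁ →ₐ[k] _).toRingHom (X ∘ Sum.inr)

/-- `k[V ⊕ W] → k[V][W]`. -/
noncomputable def unflat : MvPolynomial (σ₁ ⊕ σ₂) k →ₐ[k] MvPolynomial σ₂ A₁ :=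
  aeval (Sum.elim (C ∘ X) X)

lemma unflat_flat (p : MvPolynomial σ₂ A₁) : unflat (flat p) = p := by
  induction p using MvPolynomial.induction_on with
  | C a =>
    simp only [flat, eval₂Hom_C, AlgHom.toRingHom_eq_coe, RingHom.coe_coe, unflat, aeval_rename, Sum.elim_comp_inl]
    induction a using MvPolynomial.induction_on with
    | C r => simp [MvPolynomial.algebraMap_apply]
    | add p q hp hq => simp [hp, hq]
    | mul_X p i hp => simp [hp]
  | add p q hp hq => simp [hp, hq]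
  | mul_X p i hp => simp [hp]; simp [flat, unflat]

lemma flat_unflat (p : MvPolynomial (σ₁ ⊕ σ₂) k) : flat (unflat p) = p := by
  induction p using MvPolynomial.induction_on with
  | C r => simp [flat, unflat, MvPolynomial.algebraMap_apply]
  | add p q hp hq => simp [hp, hq]
  | mul_X p i hp => rcases i with i | i <;> simp [hp] <;> simp [flat, unflat]

lemma aeval_map_eq_flat (p : MvPolynomial σ₂ A₁) :
    letI := algInl k σ₁ σ₂
    aeval (fun j => (InvFld.X (Sum.inr j) : F₁₂)) (MvPolynomial.map (algebraMap A₁ (InvFld.Fld σ₁ k)) p) =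
      algebraMap (MvPolynomial (σ₁ ⊕ σ₂) k) F₁₂ (flat p) := by
  letI := algInl k σ₁ σ₂
  induction p using MvPolynomial.induction_on with
  | C a =>
    rw [map_C, aeval_C, flat, eval₂Hom_C]
    exact inlFld_algebraMap a
  | add p q hp hq => simp [hp, hq]
  | mul_X p i hp => rw [map_mul, map_mul, map_mul, map_mul, hp, map_X, aeval_X]; simp [flat, InvFld.X]

lemma algIndep_inr :
    letI := algInl k σ₁ σ₂
    AlgebraicIndependent (InvFld.Fld σ₁ k) (fun j => (InvFld.X (Sum.inr j) : F₁₂)) := by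
  classical
  letI := algInl k σ₁ σ₂
  rw [algebraicIndependent_iff]
  intro p hp
  obtain ⟨⟨b, hb⟩, hbint⟩ := IsLocalization.exist_integer_multiples (nonZeroDivisors A₁) p.support fun d => coeff d p
  choose a ha using fun d : p.support => hbint d.1 d.2
  let P : MvPolynomial σ₂ A₁ := ∑ d : p.support, monomial d.1 (a d)
  have hP : MvPolynomial.map (algebraMap A₁ (InvFld.Fld σ₁ k)) P = C (algebraMap A₁ _ b) * p := by
    conv_rhs => rw [p.as_sum, Finset.mul_sum, ← Finset.sum_coe_sort]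
    simp only [P, map_sum, map_monomial, C_mul_monomial]
    refine Finset.sum_congr rfl fun d _ => ?_
    rw [ha d]
    simp [Algebra.smul_def]
  have h0 : flat P = 0 := IsFractionRing.injective (MvPolynomial (σ₁ ⊕ σ₂) k) F₁₂ (by
    rw [← aeval_map_eq_flat, hP, map_mul, hp, mul_zero, map_zero])
  have hP0 : P = 0 := by rw [← unflat_flat P, h0, map_zero]
  rw [hP0, map_zero, eq_comm, mul_eq_zero, C_eq_zero, IsFractionRing.to_map_eq_zero_iff] at hP
  exact hP.resolve_left (nonZeroDivisors.ne_zero hb)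

lemma gen_inr (z : F₁₂) :
    letI := algInl k σ₁ σ₂
    ∃ p q : MvPolynomial σ₂ (InvFld.Fld σ₁ k), aeval (fun j => (InvFld.X (Sum.inr j) : F₁₂)) q ≠ 0 ∧
      z * aeval (fun j => (InvFld.X (Sum.inr j) : F₁₂)) q = aeval (fun j => (InvFld.X (Sum.inr j) : F₁₂)) p := by
  obtain ⟨a, b, hb, rfl⟩ := IsFractionRing.div_surjective (MvPolynomial (σ₁ ⊕ σ₂) k) z
  have hb0 : algebraMap (MvPolynomial (σ₁ ⊕ σ₂) k) F₁₂ b ≠ 0 :=
    IsFractionRing.to_map_ne_zero_of_mem_nonZeroDivisors hb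
  refine ⟨MvPolynomial.map (algebraMap A₁ _) (unflat a), MvPolynomial.map (algebraMap A₁ _) (unflat b), ?_, ?_⟩
  · rw [aeval_map_eq_flat, flat_unflat]; exact hb0
  · rw [aeval_map_eq_flat, aeval_map_eq_flat, flat_unflat, flat_unflat, div_mul_cancel₀ _ hb0]

section action

variable {G : Type*} [Group G]

/-- A linear action on a rational function field. -/
def IsLinear {σ : Type} (ρ : G →* (InvFld.Fld σ k ≃ₐ[k] InvFld.Fld σ k)) : Prop :=
  ∀ g i, ρ g (InvFld.X i) ∈ Submodule.span k (Set.range fun j : σ => (InvFld.X j : InvFld.Fld σ k))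

lemma exists_poly_lift {σ : Type} {ρ : G →* (InvFld.Fld σ k ≃ₐ[k] InvFld.Fld σ k)} (h : IsLinear ρ) :
    ∃ l : G → σ → MvPolynomial σ k,
      ∀ g p, ρ g (algebraMap (MvPolynomial σ k) _ p) = algebraMap _ _ (aeval (l g) p) := by
  have h1 : ∀ g i, ∃ l, algebraMap (MvPolynomial σ k) (InvFld.Fld σ k) l = ρ g (InvFld.X i) := by
    intro g i
    have : Submodule.span k (Set.range fun j : σ => (InvFld.X j : InvFld.Fld σ k)) ≤
        LinearMap.range (IsScalarTower.toAlgHom k (MvPolynomial σ k) (InvFld.Fld σ k)).toLinearMap :=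
      Submodule.span_le.2 (by rintro _ ⟨j, rfl⟩; exact ⟨X j, rfl⟩)
    exact this (h g i)
  choose l hl using h1
  refine ⟨l, fun g p => ?_⟩
  have := AlgHom.congr_fun (MvPolynomial.algHom_ext (f := ((ρ g : InvFld.Fld σ k ≃ₐ[k] InvFld.Fld σ k) : InvFld.Fld σ k →ₐ[k] InvFld.Fld σ k).comp
      (IsScalarTower.toAlgHom k (MvPolynomial σ k) (InvFld.Fld σ k)))
    (g := (IsScalarTower.toAlgHom k _ (InvFld.Fld σ k)).comp (aeval (l g))) fun i => by simp [hl]) p
  exact this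

variable {ρ₁ : G →* (InvFld.Fld σ₁ k ≃ₐ[k] InvFld.Fld σ₁ k)} {ρ₂ : G →* (InvFld.Fld σ₂ k ≃ₐ[k] InvFld.Fld σ₂ k)}

theorem exists_sum_action (h₁ : IsLinear ρ₁) (h₂ : IsLinear ρ₂) :
    ∃ θ : G →* (F₁₂ ≃ₐ[k] F₁₂),
      (∀ g a, θ g (inlFld k σ₁ σ₂ a) = inlFld k σ₁ σ₂ (ρ₁ g a)) ∧
      (∀ g (p : MvPolynomial σ₂ k) (q : MvPolynomial σ₂ k), ρ₂ g (algebraMap _ _ p) = algebraMap _ _ q →
        θ g (algebraMap (MvPolynomial (σ₁ ⊕ σ₂) k) F₁₂ (rename Sum.inr p)) =
          algebraMap (MvPolynomial (σ₁ ⊕ σ₂) k) F₁₂ (rename Sum.inr q)) := by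
  obtain ⟨l₁, hl₁⟩ := exists_poly_lift h₁
  obtain ⟨l₂, hl₂⟩ := exists_poly_lift h₂
  have hmul : ∀ {σ : Type} {ρ : G →* (InvFld.Fld σ k ≃ₐ[k] InvFld.Fld σ k)} (l : G → σ → MvPolynomial σ k),
      (∀ g p, ρ g (algebraMap (MvPolynomial σ k) _ p) = algebraMap _ _ (aeval (l g) p)) →
      (∀ g g' (p : MvPolynomial σ k), aeval (l (g * g')) p = aeval (l g) (aeval (l g') p)) ∧
        (∀ p : MvPolynomial σ k, aeval (l 1) p = p) := by
    intro σ ρ l hl
    refine ⟨fun g g' p => IsFractionRing.injective (MvPolynomial σ k) (InvFld.Fld σ k) ?_,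
      fun p => IsFractionRing.injective (MvPolynomial σ k) (InvFld.Fld σ k) ?_⟩
    · rw [← hl, ← hl, ← hl, map_mul]; rfl
    · rw [← hl, map_one]; rfl
  obtain ⟨m₁, o₁⟩ := hmul l₁ hl₁
  obtain ⟨m₂, o₂⟩ := hmul l₂ hl₂
  let Q : G → MvPolynomial (σ₁ ⊕ σ₂) k →ₐ[k] MvPolynomial (σ₁ ⊕ σ₂) k := fun g =>
    aeval (Sum.elim (fun i => rename Sum.inl (l₁ g i)) (fun j => rename Sum.inr (l₂ g j)))
  have hQ1 : ∀ g p, Q g (rename Sum.inl p) = rename Sum.inl (aeval (l₁ g) p) := fun g p => by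
    rw [aeval_rename, Sum.elim_comp_inl]
    exact (comp_aeval_apply (f := l₁ g) (rename Sum.inl) p).symm
  have hQ2 : ∀ g p, Q g (rename Sum.inr p) = rename Sum.inr (aeval (l₂ g) p) := fun g p => by
    rw [aeval_rename, Sum.elim_comp_inr]
    exact (comp_aeval_apply (f := l₂ g) (rename Sum.inr) p).symm
  have hQm : ∀ g g', Q (g * g') = (Q g).comp (Q g') := fun g g' => MvPolynomial.algHom_ext fun i => by
    rcases i with i | i
    · rw [AlgHom.comp_apply, ← rename_X Sum.inl i, hQ1, hQ1, hQ1, m₁]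
    · rw [AlgHom.comp_apply, ← rename_X Sum.inr i, hQ2, hQ2, hQ2, m₂]
  have hQo : Q 1 = AlgHom.id k _ := MvPolynomial.algHom_ext fun i => by
    rcases i with i | i
    · rw [AlgHom.id_apply, ← rename_X Sum.inl i, hQ1, o₁]
    · rw [AlgHom.id_apply, ← rename_X Sum.inr i, hQ2, o₂]
  let E : G → MvPolynomial (σ₁ ⊕ σ₂) k ≃ₐ[k] MvPolynomial (σ₁ ⊕ σ₂) k := fun g =>
    AlgEquiv.ofAlgHom (Q g) (Q g⁻¹) (by rw [← hQm, mul_inv_cancel, hQo]) (by rw [← hQm, inv_mul_cancel, hQo])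
  let θ₀ : G → F₁₂ ≃ₐ[k] F₁₂ := fun g => IsFractionRing.algEquivOfAlgEquiv (E g)
  have hθ₀ : ∀ g p, θ₀ g (algebraMap _ _ p) = algebraMap (MvPolynomial (σ₁ ⊕ σ₂) k) F₁₂ (Q g p) :=
    fun g p => IsFractionRing.algEquivOfAlgEquiv_algebraMap _ _
  let θ : G →* (F₁₂ ≃ₐ[k] F₁₂) := MonoidHom.mk' θ₀ fun g g' => AlgEquiv.ext fun z => by
    obtain ⟨a, b, -, rfl⟩ := IsFractionRing.div_surjective (MvPolynomial (σ₁ ⊕ σ₂) k) z
    simp [map_div₀, hθ₀, hQm]
  refine ⟨θ, fun g a => ?_, fun g p q hpq => ?_⟩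
  · obtain ⟨a, b, -, rfl⟩ := IsFractionRing.div_surjective A₁ a
    show θ₀ g _ = _
    simp [map_div₀, hl₁, hθ₀, hQ1]
  · show θ₀ g _ = _
    rw [hθ₀, hQ2]
    rw [hl₂] at hpq
    rw [IsFractionRing.injective (MvPolynomial σ₂ k) (InvFld.Fld σ₂ k) hpq]

end action

/-- The invariants as a rational function field over the invariants of the faithful part. -/
theorem exists_algEquiv_fixed {L F : Type u} [Field L] [Field F] [Algebra k L] [Algebra k F] [Algebra L F]
    [IsScalarTower k L F] {G : Type*} [Group G] [Finite G] (ρ : G →* (L ≃ₐ[k] L)) (θ : G →* (F ≃ₐ[k] F))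
    (hcomp : ∀ g a, θ g (algebraMap L F a) = algebraMap L F (ρ g a))
    (hρ : Function.Injective ρ) {m : ℕ} {y : Fin m → F} (hy : AlgebraicIndependent L y)
    (hstab : ∀ g i, θ g (y i) ∈ Submodule.span L (Set.range y))
    (hgen : ∀ z : F, ∃ p q : MvPolynomial (Fin m) L, aeval y q ≠ 0 ∧ z * aeval y q = aeval y p)
    (K : IntermediateField k L) (hK : ∀ a, a ∈ K ↔ ∀ g, ρ g a = a)
    (Φ : IntermediateField k F) (hΦ : ∀ z, z ∈ Φ ↔ ∀ g, θ g z = z) :
    Nonempty (InvFld.Fld (Fin m) K ≃ₐ[k] Φ) := by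
  classical
  obtain ⟨t, ht, htind, hfrac⟩ := no_name_lemma ρ θ hcomp hρ hy hstab hgen
  let φ₀ : MvPolynomial (Fin m) K →ₐ[k] F :=
    ((aeval t : MvPolynomial (Fin m) L →ₐ[L] F).restrictScalars k).comp (MvPolynomial.mapAlgHom K.val)
  have hφ₀ : Function.Injective φ₀ := by
    show Function.Injective ((aeval t : MvPolynomial (Fin m) L →ₐ[L] F) ∘ MvPolynomial.map K.val.toRingHom)
    exact (algebraicIndependent_iff_injective_aeval.1 htind).comp
      (MvPolynomial.map_injective _ Subtype.val_injective)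
  let φ : InvFld.Fld (Fin m) K →ₐ[k] F := IsFractionRing.liftAlgHom (R := k) (K := InvFld.Fld (Fin m) K) hφ₀
  have hφ : ∀ p, φ (algebraMap _ _ p) = φ₀ p := fun p => IsFractionRing.lift_algebraMap hφ₀ p
  have hinv : ∀ p g, θ g (φ₀ p) = φ₀ p := fun p g => by
    show θ g (aeval t (MvPolynomial.map K.val.toRingHom p)) = _
    rw [map_aeval ρ θ hcomp ht]
    show _ = aeval t (MvPolynomial.map K.val.toRingHom p)
    congr 1
    ext d
    rw [coeff_map, coeff_map]
    exact (hK _).1 (coeff d p).2 g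
  have hrange : φ.fieldRange = Φ := by
    refine le_antisymm ?_ fun z hz => ?_
    · rintro _ ⟨x, rfl⟩
      obtain ⟨a, b, -, rfl⟩ := IsFractionRing.div_surjective (MvPolynomial (Fin m) K) x
      show φ (_ / _) ∈ _
      rw [map_div₀, hφ, hφ, hΦ]
      exact fun g => by rw [map_div₀, hinv, hinv]
    · obtain ⟨p, q, hp, hq, hq0, hzq⟩ := hfrac z ((hΦ z).1 hz)
      have hl : ∀ r : MvPolynomial (Fin m) L, (∀ d g, ρ g (coeff d r) = coeff d r) →
          ∃ r', φ₀ r' = aeval t r := fun r hr => by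
        refine ⟨∑ d ∈ r.support, monomial d ⟨coeff d r, (hK _).2 (hr d)⟩, ?_⟩
        show aeval t (MvPolynomial.map K.val.toRingHom _) = _
        rw [map_sum]
        simp only [map_monomial]
        conv_rhs => rw [r.as_sum]
        rfl
      obtain ⟨p', hp'⟩ := hl p hp
      obtain ⟨q', hq'⟩ := hl q hq
      refine ⟨algebraMap _ _ p' / algebraMap _ _ q', ?_⟩
      show φ (_ / _) = _
      rw [map_div₀, hφ, hφ, hp', hq', ← hzq, mul_div_assoc, div_self hq0, mul_one]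
  exact ⟨(AlgEquiv.ofInjectiveField φ).trans (IntermediateField.equivOfEq hrange)⟩

end InvFldLib
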