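import Groth.Agent.InvFldLib.Stable
import Mathlib.RingTheory.MvPolynomial.Symmetric.FundamentalTheorem

/-! # The permutation action and purity of symmetric rational functions -/

set_option autoImplicit false
universe u

open MvPolynomial

namespace InvFldLib

variable {k : Type u} [Field k]

/-- The action of permutations on `k(x_1, …, x_n)`. -/
noncomputable def permAct (n : ℕ) : Equiv.Perm (Fin n) →* (InvFld.Fld (Fin n) k ≃ₐ[k] InvFld.Fld (Fin n) k) :=
  MonoidHom.mk' (fun σ => IsFractionRing.algEquivOfAlgEquiv (MvPolynomial.renameEquiv k σ)) fun σ τ =>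
    AlgEquiv.ext fun z => by
      obtain ⟨a, b, -, rfl⟩ := IsFractionRing.div_surjective (MvPolynomial (Fin n) k) z
      simp [map_div₀, rename_rename, Function.comp_def]

lemma permAct_algebraMap {n : ℕ} (σ : Equiv.Perm (Fin n)) (p : MvPolynomial (Fin n) k) :
    permAct (k := k) n σ (algebraMap (MvPolynomial (Fin n) k) _ p) = algebraMap (MvPolynomial (Fin n) k) _ (rename σ p) :=
  IsFractionRing.algEquivOfAlgEquiv_algebraMap (MvPolynomial.renameEquiv k σ) p

lemma permAct_linear (n : ℕ) : IsLinear (permAct n : _ →* (InvFld.Fld (Fin n) k ≃ₐ[k] _)) := fun σ i => by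
  rw [InvFld.X, permAct_algebraMap, rename_X]
  exact Submodule.subset_span ⟨σ i, rfl⟩

lemma permAct_injective (n : ℕ) :
    Function.Injective (permAct n : _ →* (InvFld.Fld (Fin n) k ≃ₐ[k] _)) := fun σ τ h => Equiv.ext fun i => by
  have h1 := DFunLike.congr_fun h (InvFld.X i)
  rw [InvFld.X, permAct_algebraMap, permAct_algebraMap, rename_X, rename_X] at h1
  exact X_injective (IsFractionRing.injective (MvPolynomial (Fin n) k) _ h1)

/-- The symmetric rational functions are a rational function field. -/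
theorem exists_permFixed_equiv (n : ℕ) (K : IntermediateField k (InvFld.Fld (Fin n) k))
    (hK : ∀ a, a ∈ K ↔ ∀ σ, permAct n σ a = a) : Nonempty (InvFld.Fld (Fin n) k ≃ₐ[k] K) := by
  let E := esymmAlgEquiv (R := k) (n := n) (Fin n) (Fintype.card_fin n)
  let S := IsScalarTower.toAlgHom k (MvPolynomial (Fin n) k) (InvFld.Fld (Fin n) k)
  let φ₀ : MvPolynomial (Fin n) k →ₐ[k] InvFld.Fld (Fin n) k :=
    S.comp ((symmetricSubalgebra (Fin n) k).val.comp E.toAlgHom)
  have hφ₀ : Function.Injective φ₀ :=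
    (IsFractionRing.injective (MvPolynomial (Fin n) k) _).comp (Subtype.val_injective.comp (AlgEquiv.injective _))
  let φ : InvFld.Fld (Fin n) k →ₐ[k] InvFld.Fld (Fin n) k := IsFractionRing.liftAlgHom (R := k) hφ₀
  have hφ : ∀ p, φ (algebraMap _ _ p) = φ₀ p := fun p => IsFractionRing.lift_algebraMap hφ₀ p
  have hsym : ∀ P : MvPolynomial (Fin n) k, (∀ σ : Equiv.Perm (Fin n), rename σ P = P) → ∃ P', φ₀ P' = S P := by
    intro P hP
    refine ⟨E.symm ⟨P, hP⟩, ?_⟩
    show S (E (E.symm ⟨P, hP⟩)).1 = S P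
    rw [E.apply_symm_apply]
  have hrange : φ.fieldRange = K := by
    refine le_antisymm ?_ fun z hz => ?_
    · rintro _ ⟨x, rfl⟩
      obtain ⟨a, b, -, rfl⟩ := IsFractionRing.div_surjective (MvPolynomial (Fin n) k) x
      show φ (_ / _) ∈ K
      rw [map_div₀, hφ, hφ, hK]
      intro σ
      have h : ∀ p, permAct n σ (φ₀ p) = φ₀ p := fun p => by
        have e1 : φ₀ p = algebraMap (MvPolynomial (Fin n) k) (InvFld.Fld (Fin n) k) (E p).1 := rfl
        rw [e1, permAct_algebraMap, (E p).2 σ]
      rw [map_div₀, h, h]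
    · obtain ⟨a, b, hb, rfl⟩ := IsFractionRing.div_surjective (MvPolynomial (Fin n) k) z
      let Q := ∏ σ : Equiv.Perm (Fin n), rename σ b
      let P := a * ∏ σ ∈ Finset.univ.erase (1 : Equiv.Perm (Fin n)), rename σ b
      have hQ : Q = b * ∏ σ ∈ Finset.univ.erase (1 : Equiv.Perm (Fin n)), rename σ b := by
        show ∏ σ : Equiv.Perm (Fin n), rename σ b = _
        rw [← Finset.mul_prod_erase _ _ (Finset.mem_univ (1 : Equiv.Perm (Fin n))), Equiv.Perm.coe_one, rename_id_apply]
      have hQ0 : Q ≠ 0 := Finset.prod_ne_zero_iff.2 fun σ _ h0 => nonZeroDivisors.ne_zero hb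
        (rename_injective σ σ.injective (h0.trans (map_zero _).symm))
      have hQs : ∀ σ : Equiv.Perm (Fin n), rename σ Q = Q := fun σ => by
        simp only [Q, map_prod, rename_rename]
        exact Fintype.prod_equiv (Equiv.mulLeft σ) _ _ fun τ => rfl
      have hS0 : S Q ≠ 0 := by
        rw [Ne, map_eq_zero_iff S (IsFractionRing.injective (MvPolynomial (Fin n) k) _)]; exact hQ0
      have hPQ : S P = algebraMap _ _ a / algebraMap _ _ b * S Q := by
        have hb0 : algebraMap (MvPolynomial (Fin n) k) (InvFld.Fld (Fin n) k) b ≠ 0 :=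
          IsFractionRing.to_map_ne_zero_of_mem_nonZeroDivisors hb
        simp only [P, hQ, S, map_mul, IsScalarTower.coe_toAlgHom']
        field_simp
      have hPs : ∀ σ : Equiv.Perm (Fin n), rename σ P = P := fun σ => by
        refine IsFractionRing.injective (MvPolynomial (Fin n) k) (InvFld.Fld (Fin n) k) ?_
        rw [← permAct_algebraMap]
        show permAct n σ (S P) = S P
        rw [hPQ, map_mul, (hK _).1 hz σ]
        congr 1
        show permAct n σ (algebraMap _ _ Q) = algebraMap _ _ Q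
        rw [permAct_algebraMap, hQs]
      obtain ⟨P', hP'⟩ := hsym P hPs
      obtain ⟨Q', hQ'⟩ := hsym Q hQs
      refine ⟨algebraMap _ _ P' / algebraMap _ _ Q', ?_⟩
      show φ (_ / _) = _
      rw [map_div₀, hφ, hφ, hP', hQ', hPQ, mul_div_assoc, div_self hS0, mul_one]
  exact ⟨(AlgEquiv.ofInjectiveField φ).trans (IntermediateField.equivOfEq hrange)⟩

set_option maxHeartbeats 800000 in
/-- `K(y_1, …, y_m)` is pure over `k` when `K` is. -/
theorem exists_pure_basis {K F : Type u} [Field K] [Field F] [Algebra k K] [Algebra k F] (n m : ℕ)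
    (ε : InvFld.Fld (Fin n) k ≃ₐ[k] K) (e : InvFld.Fld (Fin m) K ≃ₐ[k] F) :
    ∃ t : Fin (n + m) → F, AlgebraicIndependent k t ∧ IntermediateField.adjoin k (Set.range t) = ⊤ := by
  letI := algInl k (Fin n) (Fin m)
  haveI : IsScalarTower k (InvFld.Fld (Fin n) k) (InvFld.Fld (Fin n ⊕ Fin m) k) :=
    IsScalarTower.of_algebraMap_eq fun r => ((inlFld k (Fin n) (Fin m)).commutes r).symm
  let y := fun j : Fin m => (InvFld.X (Sum.inr j) : InvFld.Fld (Fin n ⊕ Fin m) k)
  let f₀ : MvPolynomial (Fin m) (InvFld.Fld (Fin n) k) →ₐ[k] InvFld.Fld (Fin n ⊕ Fin m) k :=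
    (aeval y : MvPolynomial (Fin m) (InvFld.Fld (Fin n) k) →ₐ[InvFld.Fld (Fin n) k] _).restrictScalars k
  have hf₀ : Function.Injective f₀ := algebraicIndependent_iff_injective_aeval.1 algIndep_inr
  let f : InvFld.Fld (Fin m) (InvFld.Fld (Fin n) k) →ₐ[k] InvFld.Fld (Fin n ⊕ Fin m) k :=
    IsFractionRing.liftAlgHom (R := k) hf₀
  have hf : Function.Surjective f := fun z => by
    obtain ⟨p, q, hq, hzq⟩ := gen_inr z
    refine ⟨algebraMap _ _ p / algebraMap _ _ q, ?_⟩
    rw [map_div₀, show f (algebraMap _ _ p) = f₀ p from IsFractionRing.lift_algebraMap hf₀ p,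
      show f (algebraMap _ _ q) = f₀ q from IsFractionRing.lift_algebraMap hf₀ q]
    show aeval y p / aeval y q = z
    rw [← hzq, mul_div_assoc, div_self hq, mul_one]
  let b : InvFld.Fld (Fin m) (InvFld.Fld (Fin n) k) ≃ₐ[k] InvFld.Fld (Fin m) K :=
    IsFractionRing.algEquivOfAlgEquiv (MvPolynomial.mapAlgEquiv (Fin m) ε)
  let T : InvFld.Fld (Fin n ⊕ Fin m) k ≃ₐ[k] F :=
    (AlgEquiv.ofBijective f ⟨f.injective, hf⟩).symm.trans (b.trans e)
  refine ⟨fun i => T (InvFld.X (finSumFinEquiv.symm i)), ?_, ?_⟩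
  · have h1 : AlgebraicIndependent k (fun i : Fin n ⊕ Fin m => T (InvFld.X i)) := by
      let g : MvPolynomial (Fin n ⊕ Fin m) k →ₐ[k] F :=
        T.toAlgHom.comp (IsScalarTower.toAlgHom k (MvPolynomial (Fin n ⊕ Fin m) k) (InvFld.Fld (Fin n ⊕ Fin m) k))
      have hg : (aeval fun i : Fin n ⊕ Fin m => T (InvFld.X i)) = g := MvPolynomial.algHom_ext fun i => by
        rw [aeval_X]; rfl
      rw [algebraicIndependent_iff_injective_aeval, hg]
      exact T.injective.comp (IsFractionRing.injective (MvPolynomial (Fin n ⊕ Fin m) k) _)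
    exact h1.comp _ finSumFinEquiv.symm.injective
  · rw [eq_top_iff]
    intro z _
    obtain ⟨x, rfl⟩ := T.surjective z
    obtain ⟨p, q, -, rfl⟩ := IsFractionRing.div_surjective (MvPolynomial (Fin n ⊕ Fin m) k) x
    have h : ∀ p, T (algebraMap (MvPolynomial (Fin n ⊕ Fin m) k) _ p) ∈
        IntermediateField.adjoin k (Set.range fun i => T (InvFld.X (finSumFinEquiv.symm i))) := by
      intro p
      induction p using MvPolynomial.induction_on with
      | C r =>
        rw [← MvPolynomial.algebraMap_eq, ← IsScalarTower.algebraMap_apply, AlgEquiv.commutes]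
        exact IntermediateField.algebraMap_mem _ r
      | add p q hp hq => rw [map_add, map_add]; exact add_mem hp hq
      | mul_X p i hp =>
        rw [map_mul, map_mul]
        exact mul_mem hp (IntermediateField.subset_adjoin _ _ ⟨finSumFinEquiv i, by simp [InvFld.X]⟩)
    rw [map_div₀]
    exact div_mem (h p) (h q)

end InvFldLib
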