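import Groth.Agent.InvFldLib.Diag
import Mathlib.Algebra.MvPolynomial.Equiv

/-! # Stable equivalence of fields of invariants -/

set_option autoImplicit false
universe u

open MvPolynomial

namespace InvFldLib

variable {k : Type u} [Field k] {G : Type*} [Group G]

lemma exists_inr_span {n m : ℕ}
    {ρ₂ : G →* (InvFld.Fld (Fin m) k ≃ₐ[k] InvFld.Fld (Fin m) k)} (h₂ : IsLinear ρ₂)
    {θ : G →* (InvFld.Fld (Fin n ⊕ Fin m) k ≃ₐ[k] InvFld.Fld (Fin n ⊕ Fin m) k)}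
    (hθ : ∀ g (p : MvPolynomial (Fin m) k) (q : MvPolynomial (Fin m) k), ρ₂ g (algebraMap _ _ p) = algebraMap _ _ q →
        θ g (algebraMap (MvPolynomial (Fin n ⊕ Fin m) k) _ (rename Sum.inr p)) =
          algebraMap (MvPolynomial (Fin n ⊕ Fin m) k) _ (rename Sum.inr q)) (g : G) (j : Fin m) :
    letI := algInl k (Fin n) (Fin m)
    θ g (InvFld.X (Sum.inr j)) ∈ Submodule.span (InvFld.Fld (Fin n) k)
      (Set.range fun j => (InvFld.X (Sum.inr j) : InvFld.Fld (Fin n ⊕ Fin m) k)) := by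
  letI := algInl k (Fin n) (Fin m)
  obtain ⟨c, hc⟩ := (Submodule.mem_span_range_iff_exists_fun k).1 (h₂ g j)
  have hq : ρ₂ g (algebraMap _ _ (X j : MvPolynomial (Fin m) k)) =
      algebraMap _ _ (∑ i, c i • (X i : MvPolynomial (Fin m) k)) := by
    show ρ₂ g (InvFld.X j) = _
    rw [← hc, map_sum]
    exact Finset.sum_congr rfl fun i _ => (map_smul (IsScalarTower.toAlgHom k _ _) (c i) _).symm
  have h := hθ g _ _ hq
  rw [rename_X] at h
  rw [InvFld.X, h, map_sum, map_sum]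
  refine Submodule.sum_mem _ fun i _ => ?_
  rw [map_smul, rename_X]
  have : algebraMap (MvPolynomial (Fin n ⊕ Fin m) k) (InvFld.Fld (Fin n ⊕ Fin m) k) (c i • X (Sum.inr i)) =
      algebraMap k (InvFld.Fld (Fin n) k) (c i) • (InvFld.X (Sum.inr i) : InvFld.Fld (Fin n ⊕ Fin m) k) := by
    rw [Algebra.smul_def, Algebra.smul_def, map_mul]
    congr 1
    rw [← IsScalarTower.algebraMap_apply]
    exact ((inlFld k (Fin n) (Fin m)).commutes (c i)).symm
  rw [this]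
  exact Submodule.smul_mem _ _ (Submodule.subset_span ⟨i, rfl⟩)

theorem sum_fixed_equiv [Finite G] {n m : ℕ} {ρ₁ : G →* (InvFld.Fld (Fin n) k ≃ₐ[k] InvFld.Fld (Fin n) k)}
    {ρ₂ : G →* (InvFld.Fld (Fin m) k ≃ₐ[k] InvFld.Fld (Fin m) k)} (h₂ : IsLinear ρ₂)
    (hinj : Function.Injective ρ₁)
    {θ : G →* (InvFld.Fld (Fin n ⊕ Fin m) k ≃ₐ[k] InvFld.Fld (Fin n ⊕ Fin m) k)}
    (hθ₁ : ∀ g a, θ g (inlFld k (Fin n) (Fin m) a) = inlFld k (Fin n) (Fin m) (ρ₁ g a))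
    (hθ₂ : ∀ g (p : MvPolynomial (Fin m) k) (q : MvPolynomial (Fin m) k), ρ₂ g (algebraMap _ _ p) = algebraMap _ _ q →
        θ g (algebraMap (MvPolynomial (Fin n ⊕ Fin m) k) _ (rename Sum.inr p)) =
          algebraMap (MvPolynomial (Fin n ⊕ Fin m) k) _ (rename Sum.inr q))
    (K : IntermediateField k (InvFld.Fld (Fin n) k)) (hK : ∀ a, a ∈ K ↔ ∀ g, ρ₁ g a = a) :
    Nonempty (InvFld.Fld (Fin m) K ≃ₐ[k]
      (IntermediateField.fixedField θ.range : IntermediateField k (InvFld.Fld (Fin n ⊕ Fin m) k))) := by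
  letI := algInl k (Fin n) (Fin m)
  haveI : IsScalarTower k (InvFld.Fld (Fin n) k) (InvFld.Fld (Fin n ⊕ Fin m) k) :=
    IsScalarTower.of_algebraMap_eq fun r => ((inlFld k (Fin n) (Fin m)).commutes r).symm
  refine exists_algEquiv_fixed ρ₁ θ hθ₁ hinj algIndep_inr (exists_inr_span h₂ hθ₂) gen_inr K hK _ fun z => ?_
  rw [IntermediateField.mem_fixedField_iff]
  exact ⟨fun h g => h _ ⟨g, rfl⟩, by rintro h _ ⟨g, rfl⟩; exact h g⟩

lemma fixed_equiv_of_conj {A B : Type u} [Field A] [Field B] [Algebra k A] [Algebra k B] (s : A ≃ₐ[k] B)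
    (θ' : G →* (A ≃ₐ[k] A)) (θ : G →* (B ≃ₐ[k] B)) (hcomm : ∀ g z, s (θ' g z) = θ g (s z)) :
    Nonempty ((IntermediateField.fixedField θ'.range : IntermediateField k A) ≃ₐ[k]
      (IntermediateField.fixedField θ.range : IntermediateField k B)) := by
  have hmap : (IntermediateField.fixedField θ'.range).map (s : A →ₐ[k] B) = IntermediateField.fixedField θ.range := by
    ext z
    simp only [IntermediateField.mem_map, IntermediateField.mem_fixedField_iff]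
    constructor
    · rintro ⟨x, hx, rfl⟩ _ ⟨g, rfl⟩
      show θ g (s x) = s x
      rw [← hcomm, hx _ ⟨g, rfl⟩]
    · intro h
      refine ⟨s.symm z, ?_, s.apply_symm_apply z⟩
      rintro _ ⟨g, rfl⟩
      apply s.injective
      rw [hcomm, s.apply_symm_apply]
      exact h _ ⟨g, rfl⟩
  exact ⟨(IntermediateField.equivMap _ (s : A →ₐ[k] B)).trans (IntermediateField.equivOfEq hmap)⟩

theorem swap_conj {n m : ℕ} {ρ₁ : G →* (InvFld.Fld (Fin n) k ≃ₐ[k] InvFld.Fld (Fin n) k)}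
    {ρ₂ : G →* (InvFld.Fld (Fin m) k ≃ₐ[k] InvFld.Fld (Fin m) k)} (h₁ : IsLinear ρ₁) (h₂ : IsLinear ρ₂)
    {θ : G →* (InvFld.Fld (Fin n ⊕ Fin m) k ≃ₐ[k] InvFld.Fld (Fin n ⊕ Fin m) k)}
    (hθ₁ : ∀ g a, θ g (inlFld k (Fin n) (Fin m) a) = inlFld k (Fin n) (Fin m) (ρ₁ g a))
    (hθ₂ : ∀ g (p : MvPolynomial (Fin m) k) (q : MvPolynomial (Fin m) k), ρ₂ g (algebraMap _ _ p) = algebraMap _ _ q →
        θ g (algebraMap (MvPolynomial (Fin n ⊕ Fin m) k) _ (rename Sum.inr p)) =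
          algebraMap (MvPolynomial (Fin n ⊕ Fin m) k) _ (rename Sum.inr q))
    {θ' : G →* (InvFld.Fld (Fin m ⊕ Fin n) k ≃ₐ[k] InvFld.Fld (Fin m ⊕ Fin n) k)}
    (hθ'₁ : ∀ g a, θ' g (inlFld k (Fin m) (Fin n) a) = inlFld k (Fin m) (Fin n) (ρ₂ g a))
    (hθ'₂ : ∀ g (p : MvPolynomial (Fin n) k) (q : MvPolynomial (Fin n) k), ρ₁ g (algebraMap _ _ p) = algebraMap _ _ q →
        θ' g (algebraMap (MvPolynomial (Fin m ⊕ Fin n) k) _ (rename Sum.inr p)) =
          algebraMap (MvPolynomial (Fin m ⊕ Fin n) k) _ (rename Sum.inr q))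
    (s : InvFld.Fld (Fin m ⊕ Fin n) k ≃ₐ[k] InvFld.Fld (Fin n ⊕ Fin m) k)
    (hsl : ∀ p : MvPolynomial (Fin m) k, s (algebraMap (MvPolynomial (Fin m ⊕ Fin n) k) _ (rename Sum.inl p)) =
      algebraMap (MvPolynomial (Fin n ⊕ Fin m) k) _ (rename Sum.inr p))
    (hsr : ∀ p : MvPolynomial (Fin n) k, s (algebraMap (MvPolynomial (Fin m ⊕ Fin n) k) _ (rename Sum.inr p)) =
      algebraMap (MvPolynomial (Fin n ⊕ Fin m) k) _ (rename Sum.inl p)) (g : G)
    (z : InvFld.Fld (Fin m ⊕ Fin n) k) : s (θ' g z) = θ g (s z) := by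
  have hX : ∀ i, s (θ' g (InvFld.X i)) = θ g (s (InvFld.X i)) := by
    rintro (j | i)
    · obtain ⟨l, hl⟩ := exists_poly_lift h₂
      have e1 := hl g (X j : MvPolynomial (Fin m) k)
      have e2 : θ' g (InvFld.X (Sum.inl j)) =
          algebraMap (MvPolynomial (Fin m ⊕ Fin n) k) _ (rename Sum.inl (aeval (l g) (X j : MvPolynomial (Fin m) k))) := by
        rw [← inlFld_X j, hθ'₁, ← inlFld_algebraMap]
        exact congrArg _ e1
      have e3 := hθ₂ g _ _ e1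
      have e4 := hsl (X j : MvPolynomial (Fin m) k)
      rw [rename_X] at e4
      rw [e2, hsl, InvFld.X, e4, e3]
    · obtain ⟨l, hl⟩ := exists_poly_lift h₁
      have e1 := hl g (X i)
      have e3 := hθ'₂ g _ _ e1
      rw [rename_X] at e3
      have e4 := hsr (X i)
      rw [rename_X] at e4
      rw [InvFld.X, e3, hsr, e4, ← inlFld_algebraMap (σ₂ := Fin m), ← inlFld_algebraMap (σ₂ := Fin m), hθ₁, e1]
  have hp : ∀ p, s (θ' g (algebraMap (MvPolynomial (Fin m ⊕ Fin n) k) _ p)) = θ g (s (algebraMap _ _ p)) := by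
    intro p
    induction p using MvPolynomial.induction_on with
    | C r =>
      rw [← MvPolynomial.algebraMap_eq, ← IsScalarTower.algebraMap_apply, AlgEquiv.commutes, AlgEquiv.commutes,
        AlgEquiv.commutes]
    | add p q hp hq => simp only [map_add, hp, hq]
    | mul_X p i hp => simp only [map_mul, hp, hX]
  obtain ⟨a, b, -, rfl⟩ := IsFractionRing.div_surjective (MvPolynomial (Fin m ⊕ Fin n) k) z
  simp only [map_div₀, hp]

/-- Two faithful linear actions of the same finite group have stably equivalent fields of invariants. -/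
theorem stable_equiv [Finite G] {n m : ℕ} {ρ₁ : G →* (InvFld.Fld (Fin n) k ≃ₐ[k] InvFld.Fld (Fin n) k)}
    {ρ₂ : G →* (InvFld.Fld (Fin m) k ≃ₐ[k] InvFld.Fld (Fin m) k)} (h₁ : IsLinear ρ₁) (h₂ : IsLinear ρ₂)
    (hinj₁ : Function.Injective ρ₁) (hinj₂ : Function.Injective ρ₂)
    (K₁ : IntermediateField k (InvFld.Fld (Fin n) k)) (hK₁ : ∀ a, a ∈ K₁ ↔ ∀ g, ρ₁ g a = a)
    (K₂ : IntermediateField k (InvFld.Fld (Fin m) k)) (hK₂ : ∀ a, a ∈ K₂ ↔ ∀ g, ρ₂ g a = a) :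
    Nonempty (InvFld.Fld (Fin m) K₁ ≃ₐ[k] InvFld.Fld (Fin n) K₂) := by
  obtain ⟨θ, hθ₁, hθ₂⟩ := exists_sum_action h₁ h₂
  obtain ⟨θ', hθ'₁, hθ'₂⟩ := exists_sum_action h₂ h₁
  obtain ⟨α⟩ := sum_fixed_equiv h₂ hinj₁ hθ₁ hθ₂ K₁ hK₁
  obtain ⟨β⟩ := sum_fixed_equiv h₁ hinj₂ hθ'₁ hθ'₂ K₂ hK₂
  let E := MvPolynomial.renameEquiv k (Equiv.sumComm (Fin m) (Fin n))
  let s : InvFld.Fld (Fin m ⊕ Fin n) k ≃ₐ[k] InvFld.Fld (Fin n ⊕ Fin m) k := IsFractionRing.algEquivOfAlgEquiv E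
  have hsl : ∀ p : MvPolynomial (Fin m) k, s (algebraMap (MvPolynomial (Fin m ⊕ Fin n) k) _ (rename Sum.inl p)) =
      algebraMap (MvPolynomial (Fin n ⊕ Fin m) k) _ (rename Sum.inr p) := fun p => by
    rw [show s _ = _ from IsFractionRing.algEquivOfAlgEquiv_algebraMap E _, renameEquiv_apply, rename_rename]
    rfl
  have hsr : ∀ p : MvPolynomial (Fin n) k, s (algebraMap (MvPolynomial (Fin m ⊕ Fin n) k) _ (rename Sum.inr p)) =
      algebraMap (MvPolynomial (Fin n ⊕ Fin m) k) _ (rename Sum.inl p) := fun p => by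
    rw [show s _ = _ from IsFractionRing.algEquivOfAlgEquiv_algebraMap E _, renameEquiv_apply, rename_rename]
    rfl
  obtain ⟨γ⟩ := fixed_equiv_of_conj s θ' θ (swap_conj h₁ h₂ hθ₁ hθ₂ hθ'₁ hθ'₂ s hsl hsr)
  exact ⟨α.trans (γ.symm.trans β.symm)⟩

end InvFldLib
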